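import Cfsg.Agent.ChevSimple.Two.Bits
import Mathlib.Algebra.CharP.Two
import Mathlib.LinearAlgebra.Matrix.Rank

/-!
# Root words over the field with two elements as packed matrices

Left multiplication by a root element is a list of row additions, one for each odd entry of its
table. Rank certificates separate the classes.
-/

set_option autoImplicit false

namespace CfsgLib.InvClasses

open Cfsg.Lie CfsgLib.Chevalley CfsgLib.ChevSimple.Two
open scoped MatrixGroups

variable {D : ChevalleyDatum}

/-- The entries of the three divided powers. -/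
def entsAll (D : ChevalleyDatum) (r : ℕ) : List (ℕ × ℕ × ℤ) :=
  ents D r 1 ++ ents D r 2 ++ ents D r 3

/-- Add row `p.2.1` of `K` to row `p.1` of `acc` for an odd entry. -/
def addRow (n K acc : ℕ) (p : ℕ × ℕ × ℤ) : ℕ :=
  bif Nat.blt p.2.1 n && (p.2.2.natAbs % 2 == 1) then acc ^^^ (digit n K p.2.1 <<< (n * p.1)) else acc

/-- Left multiplication by a root element with parameter one. -/
def actOne (D : ChevalleyDatum) (r K : ℕ) : ℕ :=
  (entsAll D r).foldl (addRow (dim D) K) K

/-- The code of a word in root elements. -/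
def actWord (D : ChevalleyDatum) (w : List ℕ) : ℕ := w.foldr (actOne D) (oneC (dim D))

theorem digit_xor (n x y i : ℕ) : digit n (x ^^^ y) i = digit n x i ^^^ digit n y i := by
  simp only [digit, ← Nat.shiftRight_eq_div_pow, Nat.shiftRight_xor_distrib, Nat.xor_mod_two_pow]

theorem bit_shift (n d a i j : ℕ) (hd : d < 2 ^ n) (hj : j < n) :
    bit (digit n (d <<< (n * a)) i) j = if a = i then bit d j else 0 := by
  simp only [bit, digit, ← Nat.shiftRight_eq_div_pow, Nat.testBit_mod_two_pow,
    Nat.testBit_shiftRight, Nat.testBit_shiftLeft, hj, decide_true, Bool.true_and]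
  rcases lt_trichotomy i a with h | h | h
  · have : n * (i + 1) ≤ n * a := Nat.mul_le_mul_left n h
    rw [mul_add, mul_one] at this
    rw [if_neg h.ne', decide_eq_false (by omega : ¬ n * a ≤ n * i + j)]
    rfl
  · subst h
    rw [if_pos rfl, decide_eq_true (by omega : n * i ≤ n * i + j)]
    simp
  · have : n * (a + 1) ≤ n * i := Nat.mul_le_mul_left n h
    rw [mul_add, mul_one] at this
    rw [if_neg h.ne, Nat.testBit_lt_two_pow (i := n * i + j - n * a)
      (lt_of_lt_of_le hd (Nat.pow_le_pow_right (by norm_num) (by omega)))]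
    simp

theorem cast_parity (v : ℤ) : (v : ZMod 2) = if v.natAbs % 2 = 1 then 1 else 0 := by
  rw [← ZMod.intCast_mod v 2]
  rcases Int.emod_two_eq_zero_or_one v with e | e
  · rw [if_neg (by omega), show (v % ((2 : ℕ) : ℤ)) = 0 from e, Int.cast_zero]
  · rw [if_pos (by omega), show (v % ((2 : ℕ) : ℤ)) = 1 from e, Int.cast_one]

theorem toMat_foldl (K : ℕ) (L : List (ℕ × ℕ × ℤ)) (acc : ℕ) :
    toMat D (L.foldl (addRow (dim D) K) acc) = toMat D acc +
      (Matrix.of fun a c : D.Idx => (entVal L (pos a) (pos c) : ZMod 2)) * toMat D K := by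
  induction L generalizing acc with
  | nil =>
    simp [entVal_nil, show (Matrix.of fun _ _ : D.Idx => (0 : ZMod 2)) = 0 from rfl]
  | cons p L ih =>
    rw [List.foldl_cons, ih]
    have hsplit : (Matrix.of fun a c : D.Idx => (entVal (p :: L) (pos a) (pos c) : ZMod 2)) =
        (Matrix.of fun a c : D.Idx =>
          if p.1 = pos a ∧ p.2.1 = pos c then (p.2.2 : ZMod 2) else 0) +
        Matrix.of fun a c : D.Idx => (entVal L (pos a) (pos c) : ZMod 2) := by
      ext a c
      simp only [Matrix.of_apply, Matrix.add_apply, entVal_cons]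
      push_cast
      split_ifs <;> simp_all
    rw [hsplit, Matrix.add_mul, ← add_assoc]
    congr 1
    ext a b
    rw [Matrix.add_apply, Matrix.mul_apply]
    simp only [Matrix.of_apply, toMat]
    rw [addRow]
    by_cases hc : p.2.1 < dim D
    · obtain ⟨c, hcp⟩ : ∃ c : D.Idx, pos c = p.2.1 :=
        ⟨finSumFinEquiv.symm ⟨p.2.1, hc⟩, by simp [pos]⟩
      have hone : (∑ x : D.Idx, (if p.1 = pos a ∧ p.2.1 = pos x then (p.2.2 : ZMod 2) else 0) *
          bit (digit (dim D) K (pos x)) (pos b)) =
          if p.1 = pos a then (p.2.2 : ZMod 2) * bit (digit (dim D) K p.2.1) (pos b) else 0 := by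
        rw [Finset.sum_eq_single c]
        · rw [hcp]; split_ifs <;> simp_all
        · intro x _ hx
          rw [if_neg, zero_mul]
          exact fun e => hx (finSumFinEquiv.injective (Fin.ext (e.2.symm.trans hcp.symm)))
        · simp
      rw [hone, cast_parity]
      simp only [Nat.blt_eq, hc, Bool.cond_eq_ite, Bool.and_eq_true, beq_iff_eq, true_and]
      by_cases hv : p.2.2.natAbs % 2 = 1
      · rw [if_pos hv, if_pos hv, digit_xor, bit_xor,
          bit_shift _ _ _ _ _ (digit_lt _ _ _) (pos_lt b), one_mul]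
      · simp [hv]
    · have hzero : (∑ x : D.Idx, (if p.1 = pos a ∧ p.2.1 = pos x then (p.2.2 : ZMod 2) else 0) *
          bit (digit (dim D) K (pos x)) (pos b)) = 0 :=
        Finset.sum_eq_zero fun x _ => by
          rw [if_neg, zero_mul]
          exact fun e => hc (e.2 ▸ pos_lt x)
      rw [hzero, add_zero]
      simp [Bool.cond_eq_ite, hc]

theorem toMat_actOne (r : Root D) (K : ℕ) :
    toMat D (actOne D r K) = xR D (ZMod 2) r 1 * toMat D K := by
  rw [actOne, toMat_foldl]
  have e : xR D (ZMod 2) r 1 = 1 +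
      Matrix.of fun a c : D.Idx => (entVal (entsAll D r) (pos a) (pos c) : ZMod 2) := by
    ext a c
    simp only [xR, Finset.sum_range_succ, Finset.sum_range_zero, zero_add, one_pow, one_smul,
      Matrix.add_apply, Matrix.map_apply, E_zero, Matrix.of_apply, entsAll, entVal_append,
      E_apply r (one_ne_zero), E_apply r (two_ne_zero), E_apply r (three_ne_zero), pos]
    push_cast
    by_cases h : a = c <;> simp [Matrix.one_apply, h, add_assoc]
  rw [e, Matrix.add_mul, one_mul]

variable (hD : Good D)

theorem coe_wordX_act (w : List ℕ) (hw : ∀ r ∈ w, r < D.nroots) :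
    ((wordX hD w : GL D.Idx (ZMod 2)) : Matrix D.Idx D.Idx (ZMod 2)) = toMat D (actWord D w) := by
  induction w with
  | nil => simp [wordX, actWord, toMat_oneC]
  | cons r w ih =>
    have hr := hw r (List.mem_cons_self ..)
    rw [actWord, List.foldr_cons, show r = ((⟨r, hr⟩ : Root D) : ℕ) from rfl, toMat_actOne,
      ← actWord, ← ih fun s hs => hw s (List.mem_cons_of_mem _ hs), wordX, wordX, List.map_cons,
      List.prod_cons, Units.val_mul, X2, dif_pos hr, coe_X]

theorem wordX_append (v w : List ℕ) : wordX hD (v ++ w) = wordX hD v * wordX hD w := by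
  simp [wordX]

/-- Equal codes give equal products. -/
theorem wordX_eq_of_code {v w : List ℕ} (hv : v.all (fun r => Nat.blt r D.nroots) = true)
    (hw : w.all (fun r => Nat.blt r D.nroots) = true) (e : (actWord D v == actWord D w) = true) :
    wordX hD v = wordX hD w := by
  simp only [List.all_eq_true, Nat.blt_eq] at hv hw
  exact Units.ext (by rw [coe_wordX_act hD v hv, coe_wordX_act hD w hw, beq_iff_eq.1 e])

/-- The projection on the first `k` coordinates. -/
def projC (n k : ℕ) : ℕ := pack n (fun a => bif Nat.blt a k then 2 ^ a else 0) n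

theorem toMat_projC (k : ℕ) :
    toMat D (projC (dim D) k) =
      Matrix.diagonal fun a => if pos a < k then (1 : ZMod 2) else 0 := by
  ext a b
  simp only [toMat, Matrix.of_apply, projC]
  rw [digit_pack _ _ _ _ (pos_lt a), bit_mod _ _ _ (pos_lt b), Matrix.diagonal_apply]
  by_cases hk : pos a < k
  · rw [if_pos hk, show Nat.blt (pos a) k = true from by rwa [Nat.blt_eq], cond_true, bit,
      Nat.testBit_two_pow]
    by_cases h : a = b
    · simp [h]
    · have : pos a ≠ pos b := fun e => h (finSumFinEquiv.injective (Fin.ext e))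
      simp [h, this]
  · simp [bit, Bool.cond_eq_ite, hk]

variable (F : Type*) [Field F] [CharP F 2]

/-- The map of matrices from the field with two elements. -/
noncomputable def toF : GL D.Idx (ZMod 2) →* GL D.Idx F :=
  Matrix.GeneralLinearGroup.map (ZMod.castHom (dvd_refl 2) F)

/-- A product of root elements with parameter one over `F`. -/
noncomputable def word (w : List ℕ) : GL D.Idx F := toF F (wordX hD w)

theorem word_nil : word hD F [] = 1 := by simp [word, wordX]

theorem word_cons {r : ℕ} (hr : r < D.nroots) (w : List ℕ) :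
    word hD F (r :: w) = X hD ⟨r, hr⟩ 1 * word hD F w := by
  rw [word, word, wordX, List.map_cons, List.prod_cons, map_mul, X2, dif_pos hr, toF, X_map,
    map_one]
  rfl

theorem word_append (v w : List ℕ) : word hD F (v ++ w) = word hD F v * word hD F w := by
  rw [word, wordX_append, map_mul]; rfl

theorem word_mem (w : List ℕ) : word hD F w ∈ D.group F := by
  induction w with
  | nil => rw [word_nil]; exact one_mem _
  | cons r w ih =>
    by_cases hr : r < D.nroots
    · rw [word_cons hD F hr]; exact mul_mem (X_mem_group hD _ _) ih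
    · rwa [word, wordX, List.map_cons, X2, dif_neg hr, List.prod_cons, one_mul]

theorem rank_proj {k : ℕ} (hk : k ≤ dim D) :
    ((Matrix.diagonal fun a : D.Idx => if pos a < k then (1 : ZMod 2) else 0).map
      (ZMod.castHom (dvd_refl 2) F)).rank = k := by
  classical
  rw [Matrix.diagonal_map (map_zero _), Matrix.rank_diagonal]
  refine (Fintype.card_congr ?_).trans (Fintype.card_fin k)
  refine
    { toFun := fun a => ⟨pos a.1, ?_⟩
      invFun := fun i => ⟨finSumFinEquiv.symm (Fin.castLE hk i), ?_⟩
      left_inv := fun a => Subtype.ext (finSumFinEquiv.symm_apply_eq.2 (Fin.ext rfl))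
      right_inv := fun i => Fin.ext (by simp only [pos, Equiv.apply_symm_apply]; rfl) }
  · by_contra h
    exact a.2 (by simp [h])
  · simp [pos]
    exact i.isLt

/-- The code of `g - 1` for a word `g`. -/
def subOne (D : ChevalleyDatum) (w : List ℕ) : ℕ := actWord D w ^^^ oneC (dim D)

theorem toMat_subOne (w : List ℕ) (hw : ∀ r ∈ w, r < D.nroots) :
    (toMat D (subOne D w)).map (ZMod.castHom (dvd_refl 2) F) =
      ((word hD F w : GL D.Idx F) : Matrix D.Idx D.Idx F) - 1 := by
  have e : toMat D (subOne D w) =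
      ((wordX hD w : GL D.Idx (ZMod 2)) : Matrix D.Idx D.Idx (ZMod 2)) - 1 := by
    rw [coe_wordX_act hD w hw, ← toMat_oneC (D := D)]
    ext a b
    simp only [subOne, toMat, Matrix.of_apply, Matrix.sub_apply, digit_xor, bit_xor,
      CharTwo.sub_eq_add]
  rw [e, word]
  ext a b
  by_cases hab : a = b <;> simp [toF, hab]

/-- A certificate that the rank of `g - 1` is at most `k`. -/
def rankLeOk (D : ChevalleyDatum) (w : List ℕ) (k B C : ℕ) : Bool :=
  w.all (fun r => Nat.blt r D.nroots) && Nat.ble k (dim D) &&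
  (mulC (dim D) (mulC (dim D) B (projC (dim D) k)) C == subOne D w % 2 ^ (dim D * dim D))

/-- A certificate that the rank of `g - 1` is at least `k`. -/
def rankGeOk (D : ChevalleyDatum) (w : List ℕ) (k L R : ℕ) : Bool :=
  w.all (fun r => Nat.blt r D.nroots) && Nat.ble k (dim D) &&
  (mulC (dim D) (mulC (dim D) L (subOne D w)) R == projC (dim D) k)

theorem toMat_mod (K : ℕ) : toMat D (K % 2 ^ (dim D * dim D)) = toMat D K := by
  ext a b
  have ha := pos_lt a
  have hb := pos_lt b
  have h1 : dim D * (pos a + 1) ≤ dim D * dim D := Nat.mul_le_mul_left _ ha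
  rw [mul_add, mul_one] at h1
  simp only [toMat, Matrix.of_apply, bit, digit, ← Nat.shiftRight_eq_div_pow,
    Nat.testBit_mod_two_pow, Nat.testBit_shiftRight, hb, decide_true, Bool.true_and,
    show dim D * pos a + pos b < dim D * dim D by omega]

theorem rank_le_of_ok {w : List ℕ} {k B C : ℕ} (h : rankLeOk D w k B C = true) :
    (((word hD F w : GL D.Idx F) : Matrix D.Idx D.Idx F) - 1).rank ≤ k := by
  simp only [rankLeOk, Bool.and_eq_true, List.all_eq_true, Nat.blt_eq, Nat.ble_eq, beq_iff_eq] at h
  have e := congrArg (toMat D) h.2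
  rw [toMat_mod, toMat_mulC, toMat_mulC, toMat_projC] at e
  rw [← toMat_subOne hD F w h.1.1, ← e, Matrix.map_mul, Matrix.map_mul]
  refine (Matrix.rank_mul_le_left _ _).trans ((Matrix.rank_mul_le_right _ _).trans ?_)
  rw [rank_proj F h.1.2]

theorem le_rank_of_ok {w : List ℕ} {k L R : ℕ} (h : rankGeOk D w k L R = true) :
    k ≤ (((word hD F w : GL D.Idx F) : Matrix D.Idx D.Idx F) - 1).rank := by
  simp only [rankGeOk, Bool.and_eq_true, List.all_eq_true, Nat.blt_eq, Nat.ble_eq, beq_iff_eq] at h
  have e := congrArg (fun K => (toMat D K).map (ZMod.castHom (dvd_refl 2) F)) h.2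
  simp only [toMat_mulC, toMat_projC, Matrix.map_mul, toMat_subOne hD F w h.1.1] at e
  conv_lhs => rw [← rank_proj F h.1.2, ← e]
  exact (Matrix.rank_mul_le_left _ _).trans (Matrix.rank_mul_le_right _ _)

omit [CharP F 2] in
/-- Conjugate elements have equal rank of `g - 1`. -/
theorem rank_sub_one_eq_of_conj {g g' k : GL D.Idx F} (e : k * g * k⁻¹ = g') :
    (((g' : GL D.Idx F) : Matrix D.Idx D.Idx F) - 1).rank =
      (((g : GL D.Idx F) : Matrix D.Idx D.Idx F) - 1).rank := by
  subst e
  rw [show ((k * g * k⁻¹ : GL D.Idx F) : Matrix D.Idx D.Idx F) - 1 =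
    (k : Matrix D.Idx D.Idx F) * ((g : Matrix D.Idx D.Idx F) - 1) *
      ((k⁻¹ : GL D.Idx F) : Matrix D.Idx D.Idx F) by
    rw [mul_sub, sub_mul, mul_one, ← Units.val_mul, ← Units.val_mul, ← Units.val_mul,
      mul_inv_cancel, Units.val_one]]
  rw [Matrix.rank_mul_eq_left_of_isUnit_det _ _ (Matrix.isUnits_det_units _),
    Matrix.rank_mul_eq_right_of_isUnit_det _ _ (Matrix.isUnits_det_units _)]

end CfsgLib.InvClasses
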