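import Cfsg.Agent.InvClasses.MaxCell
import Cfsg.Agent.InvClasses.BitAct

/-!
# From tables to representatives of the involution classes

For each set `J` of fundamental roots there is at most one involution of the Weyl group fixing
exactly those and negating the others: the product of the longest elements. A table lists for each
`J` either a failure or a conjugation to one of a few representatives.
-/

set_option autoImplicit false

namespace CfsgLib.InvClasses

open Cfsg.Lie CfsgLib.Chevalley CfsgLib.Weyl

variable {D : ChevalleyDatum} {C : Cert D.rank} {M : CoxeterMatrix (Fin D.rank)} {R : RootTable}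

/-- The product of the fundamental reflections of a word. -/
def wEval (M : CoxeterMatrix (Fin D.rank)) : List ℕ → M.Group
  | [] => 1
  | a :: L => (if h : a < D.rank then M.simple ⟨a, h⟩ else 1) * wEval M L

/-- A line of the table: a word for the longest element of the fixed part, and possibly a
representative with a conjugating word. -/
structure Cand where
  /-- A word for the longest element of the parabolic subgroup. -/
  u : List ℕ
  /-- The representative and the conjugating word. -/
  res : Option (ℕ × List ℕ)

/-- The fundamental roots in the set coded by `m`. -/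
def inSet (D : ChevalleyDatum) (m : ℕ) : List ℕ := (List.range D.rank).filter m.testBit

/-- The check of a line. -/
def candOk (D : ChevalleyDatum) (R : RootTable) (w0 : List ℕ) (reps : List (List ℕ)) (m : ℕ)
    (c : Cand) : Bool :=
  let J := inSet D m
  let v := rwalk R (w0 ++ c.u.reverse)
  c.u.all (fun a => J.contains a) &&
  J.all (fun j => (J.map fun i => D.neg (D.simple i)).contains (rwalk R c.u (D.simple j))) &&
  match c.res with
  | none => J.any fun j => !(v (D.simple j) == D.simple j)
  | some (k, x) =>
    Nat.blt k reps.length && x.all (fun a => Nat.blt a D.rank) &&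
    (List.range D.rank).all fun i =>
      v (D.simple i) == rwalk R (x ++ (reps.getD k [] ++ x.reverse)) (D.simple i)

/-- The checks of the word of the longest element, of the representatives and of all lines. -/
structure TableOk (D : ChevalleyDatum) (R : RootTable) (w0 : List ℕ) (reps : List (List ℕ))
    (T : List Cand) : Prop where
  longest : (w0.all (fun a => Nat.blt a D.rank) && (List.range D.rank).all fun i =>
    !(R.mask.testBit (rwalk R w0 (D.simple i)))) = true
  repsOk : (reps.all fun r => r.all fun a => Nat.blt a D.rank) = true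
  lines : ((List.range (2 ^ D.rank)).all fun m =>
    candOk D R w0 reps m (T.getD m ⟨[], none⟩)) = true

theorem wEval_append (v w : List ℕ) : wEval M (v ++ w) = wEval M v * wEval M w := by
  induction v with
  | nil => simp [wEval]
  | cons a v ih => simp [wEval, ih, mul_assoc]

theorem wEval_reverse (v : List ℕ) : wEval M v.reverse = (wEval M v)⁻¹ := by
  induction v with
  | nil => simp [wEval]
  | cons a v ih =>
    rw [List.reverse_cons, wEval_append, ih]
    simp only [wEval, mul_one, mul_inv_rev]
    congr 1
    split
    · exact (inv_eq_of_mul_eq_one_right (M.toCoxeterSystem.simple_mul_simple_self _)).symm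
    · exact inv_one.symm

variable (h : RootGood C M R)

theorem rootPerm_wEval {L : List ℕ} (hL : ∀ a ∈ L, a < D.rank) (r : Fin D.nroots) :
    (h.rootPerm (wEval M L) r : ℕ) = rwalk R L r := by
  induction L with
  | nil => simp [wEval, rwalk]
  | cons a L ih =>
    rw [wEval, dif_pos (hL a (List.mem_cons_self ..)), map_mul, Equiv.Perm.mul_apply,
      h.rootPerm_simple_step, rwalk, ih fun b hb => hL b (List.mem_cons_of_mem _ hb)]

theorem eq_of_simpleRoots {v w : M.Group}
    (e : ∀ i, h.rootPerm v (h.simpleRoot i) = h.rootPerm w (h.simpleRoot i)) : v = w := by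
  refine inv_mul_eq_one.1 (h.eq_one_of_invSet_empty (h.invSet_eq_empty fun i => ?_))
  rw [map_mul, Equiv.Perm.mul_apply, ← e i, ← Equiv.Perm.mul_apply, ← map_mul, inv_mul_cancel,
    map_one, Equiv.Perm.one_apply]
  exact h.pos_simpleRoot i

include h in
/-- An involution fixing or negating each fundamental root is conjugate to a representative. -/
theorem exists_rep {w0 : List ℕ} {reps : List (List ℕ)} {T : List Cand}
    (hT : TableOk D R w0 reps T) {w : M.Group} (hww : w * w = 1) (hw : FixOrNeg h w) :
    ∃ k < reps.length, ∃ x : M.Group, w = x * wEval M (reps.getD k []) * x⁻¹ := by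
  classical
  set m := Nat.ofBits fun i : Fin D.rank => decide (h.rootPerm w (h.simpleRoot i) = h.simpleRoot i)
    with hm
  have hJ : ∀ j, j ∈ inSet D m ↔
      ∃ hj : j < D.rank, h.rootPerm w (h.simpleRoot ⟨j, hj⟩) = h.simpleRoot ⟨j, hj⟩ := by
    intro j
    simp only [inSet, List.mem_filter, List.mem_range]
    constructor
    · rintro ⟨hj, e⟩
      rw [hm, Nat.testBit_ofBits_lt _ j hj, decide_eq_true_eq] at e
      exact ⟨hj, e⟩
    · rintro ⟨hj, e⟩
      refine ⟨hj, ?_⟩
      rw [hm, Nat.testBit_ofBits_lt _ j hj, decide_eq_true_eq]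
      exact e
  obtain ⟨hl0, hreps, hlines⟩ := hT
  simp only [Bool.and_eq_true, List.all_eq_true, List.mem_range, Nat.blt_eq,
    Bool.not_eq_true'] at hl0 hreps hlines
  have hc := hlines m (Nat.ofBits_lt_two_pow _)
  revert hc
  generalize T.getD m ⟨[], none⟩ = c
  intro hc
  simp only [candOk, Bool.and_eq_true, List.all_eq_true, List.contains_iff_mem,
    List.mem_map] at hc
  obtain ⟨⟨hu, hneg⟩, hres⟩ := hc
  have hurank : ∀ a ∈ c.u, a < D.rank := fun a ha => ((hJ a).1 (hu a ha)).1
  have hv : wEval M c.u ∈ fixGroup h w := by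
    have key : ∀ L : List ℕ, (∀ a ∈ L, a ∈ inSet D m) → wEval M L ∈ fixGroup h w := by
      intro L hL
      induction L with
      | nil => exact one_mem _
      | cons a L ih =>
        obtain ⟨ha, e⟩ := (hJ a).1 (hL a (List.mem_cons_self ..))
        rw [wEval, dif_pos ha]
        exact mul_mem (Subgroup.subset_closure ⟨⟨a, ha⟩, e, rfl⟩)
          (ih fun b hb => hL b (List.mem_cons_of_mem _ hb))
    exact key _ hu
  set z := wEval M w0
  have hz : AllNeg h z := allNeg_of_simples h fun i hp => by
    have h1 := hl0.2 i i.2
    have h2 := rootPerm_wEval h hl0.1 (h.simpleRoot i)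
    rw [show (h.simpleRoot i : ℕ) = D.simple i from rfl] at h2
    rw [← h2] at h1
    have h3 := (h.mask_iff (h.rootPerm z (h.simpleRoot i)).2).2 hp
    rw [h1] at h3
    exact Bool.false_ne_true h3
  have heq : w * wEval M c.u = z := by
    refine eq_of_allNeg h (allNeg_mul h hww hw hv fun i hi => ?_) hz
    obtain ⟨j, hj, ej⟩ := hneg i ((hJ i).2 ⟨i.2, hi⟩)
    obtain ⟨hjr, hjfix⟩ := (hJ j).1 hj
    have e : h.rootPerm (wEval M c.u) (h.simpleRoot i) = h.negRoot (h.simpleRoot ⟨j, hjr⟩) :=
      Fin.ext ((rootPerm_wEval h hurank _).trans ej.symm)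
    rw [map_mul, Equiv.Perm.mul_apply, e, h.rootPerm_neg, hjfix, h.pos_negRoot, not_not]
    exact h.pos_simpleRoot _
  have hwz : w = wEval M (w0 ++ c.u.reverse) := by
    rw [wEval_append, wEval_reverse]; exact eq_mul_inv_of_mul_eq heq
  have hv0 : ∀ a ∈ w0 ++ c.u.reverse, a < D.rank := by
    intro a ha
    rcases List.mem_append.1 ha with ha | ha
    · exact hl0.1 a ha
    · exact hurank a (List.mem_reverse.1 ha)
  rcases hcr : c.res with _ | ⟨k, x⟩
  · rw [hcr] at hres
    simp only [List.any_eq_true, Bool.not_eq_true', beq_eq_false_iff_ne] at hres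
    obtain ⟨j, hj, hne⟩ := hres
    obtain ⟨hjr, hjfix⟩ := (hJ j).1 hj
    refine absurd ?_ hne
    have := rootPerm_wEval h hv0 (h.simpleRoot ⟨j, hjr⟩)
    rw [← hwz, hjfix] at this
    exact this.symm
  · rw [hcr] at hres
    simp only [Bool.and_eq_true, Nat.blt_eq, List.all_eq_true, List.mem_range, beq_iff_eq] at hres
    obtain ⟨⟨hk, hx⟩, hag⟩ := hres
    refine ⟨k, hk, wEval M x, ?_⟩
    rw [← wEval_reverse, mul_assoc, ← wEval_append, ← wEval_append, hwz]
    have hr : ∀ a ∈ x ++ (reps.getD k [] ++ x.reverse), a < D.rank := by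
      intro a ha
      rcases List.mem_append.1 ha with ha | ha
      · exact hx a ha
      rcases List.mem_append.1 ha with ha | ha
      · rw [List.getD_eq_getElem _ _ hk] at ha
        exact hreps _ (List.getElem_mem hk) a ha
      · exact hx a (List.mem_reverse.1 ha)
    refine eq_of_simpleRoots h fun i => Fin.ext ?_
    rw [rootPerm_wEval h hv0, rootPerm_wEval h hr]
    exact hag i i.2

variable (hW : GoodWeyl D) (F : Type*) [Field F] [CharP F 2]

/-- The root elements of the representative of a fundamental reflection word. -/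
def nWord2 (D : ChevalleyDatum) : List ℕ → List ℕ
  | [] => []
  | a :: L => [D.simple a, D.nroots - 1 - D.simple a, D.simple a] ++ nWord2 D L

theorem pW_wEval {L : List ℕ} (hL : ∀ a ∈ L, a < D.rank) :
    pW hW h F (wEval M L) = word hW.good F (nWord2 D L) := by
  induction L with
  | nil => simp [wEval, nWord2, word_nil]
  | cons a L ih =>
    have ha := hL a (List.mem_cons_self ..)
    have hp : D.simple a < D.nroots := hW.good.simple_lt ha
    rw [wEval, dif_pos ha, map_mul, pW_simple, ih fun b hb => hL b (List.mem_cons_of_mem _ hb),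
      nWord2, List.cons_append, word_cons _ F hp, List.cons_append,
      word_cons _ F (by omega : D.nroots - 1 - D.simple a < D.nroots), List.cons_append,
      word_cons _ F hp, List.nil_append, ← mul_assoc, ← mul_assoc]
    congr 1
    rw [nR, CharTwo.neg_eq]
    congr 2
    congr 1
    refine Fin.ext ?_
    have hpv : (pRoot hW ⟨a, ha⟩ : ℕ) = D.simple a := rfl
    rw [Fin.val_rev, hpv]
    show _ = D.nroots - 1 - D.simple a
    omega

/-- A conjugating word from a representative to a product of root elements. -/
def conjOk (D : ChevalleyDatum) (rep x S : List ℕ) : Bool :=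
  (x ++ nWord2 D rep).all (fun r => Nat.blt r D.nroots) &&
  (S ++ x).all (fun r => Nat.blt r D.nroots) &&
  (actWord D (x ++ nWord2 D rep) == actWord D (S ++ x))

include h in
theorem exists_conj_of_ok {rep x S : List ℕ} (hr : ∀ a ∈ rep, a < D.rank)
    (hok : conjOk D rep x S = true) :
    ∃ c ∈ D.group F, c * pW hW h F (wEval M rep) * c⁻¹ = word hW.good F S := by
  simp only [conjOk, Bool.and_eq_true] at hok
  refine ⟨word hW.good F x, word_mem _ _ _, ?_⟩
  rw [pW_wEval h hW F hr, ← word_append, mul_inv_eq_iff_eq_mul, ← word_append, word, word,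
    wordX_eq_of_code hW.good hok.1.1 hok.1.2 hok.2]

include h in
/-- Every element of order two is conjugate to the product of a certified list. -/
theorem exists_conj_word [Finite F] {w0 : List ℕ} {reps : List (List ℕ)} {T : List Cand}
    {cert : List (List ℕ × List ℕ)} (hT : TableOk D R w0 reps T)
    (h0 : reps.getD 0 [] = []) (hlen : cert.length + 1 = reps.length)
    (hc : ∀ k < cert.length, conjOk D (reps.getD (k + 1) []) (cert.getD k ([], [])).1
      (cert.getD k ([], [])).2 = true)
    {g : GL D.Idx F} (hg : g ∈ D.group F) (h2 : orderOf g = 2) :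
    ∃ k < cert.length, ∃ x ∈ D.group F,
      x * g * x⁻¹ = word hW.good F (cert.getD k ([], [])).2 := by
  have hgg : g * g = 1 := by rw [← pow_two, ← h2, pow_orderOf_eq_one]
  obtain ⟨a, ha, w, hww, hw, ea⟩ := exists_conj_pW hW h hg hgg
  obtain ⟨k, hk, z, rfl⟩ := exists_rep h hT hww hw
  have hreps : ∀ b ∈ reps.getD k [], b < D.rank := by
    have := hT.repsOk
    simp only [List.all_eq_true, Nat.blt_eq] at this
    rw [List.getD_eq_getElem _ _ hk]
    exact this _ (List.getElem_mem hk)
  rw [map_mul, map_mul, map_inv] at ea
  set b := (pW hW h F z)⁻¹ * a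
  have hb : b ∈ D.group F := mul_mem (inv_mem (pW_mem_group hW h F z)) ha
  have eb : b * g * b⁻¹ = pW hW h F (wEval M (reps.getD k [])) := by
    rw [show b * g * b⁻¹ = (pW hW h F z)⁻¹ * (a * g * a⁻¹) * pW hW h F z by
      simp only [b]; group, ea]
    group
  cases k with
  | zero =>
    exfalso
    rw [h0, wEval, map_one, conj_eq_one_iff] at eb
    rw [eb, orderOf_one] at h2
    omega
  | succ k =>
    obtain ⟨c, hcm, ec⟩ := exists_conj_of_ok h hW F hreps (hc k (by omega))
    refine ⟨k, by omega, c * b, mul_mem hcm hb, ?_⟩
    rw [← ec, ← eb]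
    group

end CfsgLib.InvClasses
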