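import Cfsg.Agent.WeylStab.Stabilizer

/-!
# Involutions of a Weyl group that fix or negate each fundamental root
-/

set_option autoImplicit false

namespace CfsgLib.InvClasses

open Cfsg.Lie CfsgLib.Weyl

variable {D : ChevalleyDatum} {C : Cert D.rank} {M : CoxeterMatrix (Fin D.rank)} {R : RootTable}

/-- `w` fixes or sends to a negative root each fundamental root. -/
def FixOrNeg (h : RootGood C M R) (w : M.Group) : Prop :=
  ∀ i : Fin D.rank, h.rootPerm w (h.simpleRoot i) = h.simpleRoot i ∨
    ¬ PosIdx (h.rootPerm w (h.simpleRoot i))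

/-- The subgroup generated by the simple reflections in the fundamental roots fixed by `w`. -/
def fixGroup (h : RootGood C M R) (w : M.Group) : Subgroup M.Group :=
  Subgroup.closure {s | ∃ i : Fin D.rank,
    h.rootPerm w (h.simpleRoot i) = h.simpleRoot i ∧ s = M.simple i}

/-- Every positive root is made negative. -/
def AllNeg (h : RootGood C M R) (z : M.Group) : Prop :=
  ∀ r, PosIdx r → ¬ PosIdx (h.rootPerm z r)

variable (h : RootGood C M R)

theorem allNeg_of_simples {z : M.Group}
    (hz : ∀ i : Fin D.rank, ¬ PosIdx (h.rootPerm z (h.simpleRoot i))) : AllNeg h z := by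
  intro r hr hp
  obtain ⟨k, hk⟩ := RootGood.exists_coeff_pos hr
  have hu : ∀ i, h.good.rep z⁻¹ 1 i ≤ -1 := by
    intro i
    have h1 : h.good.rep z⁻¹ 1 i ≤ 0 := by
      rw [← h.pair_simple (h.good.rep z⁻¹ 1) i, ← h.pair_symm]
      exact h.rootPair_nonpos (fun _ => zero_le_one) (hz i)
    have h2 : h.good.rep z⁻¹ 1 i ≠ 0 := by
      rw [← h.pair_simple (h.good.rep z⁻¹ 1) i, ← h.pair_symm, RootGood.pair_one]
      exact (h.root_facts (h.rootPerm z (h.simpleRoot i)).2).2.2.2.2.1
    omega
  have hlt : rootPair (h.good.rep z⁻¹ 1) r < 0 := by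
    refine Finset.sum_neg' (fun l _ => ?_) ⟨k, Finset.mem_univ k, ?_⟩
    · exact mul_nonpos_of_nonpos_of_nonneg (by have := hu l; omega)
        ((h.root_facts r.2).2.2.2.2.2.1 l hr)
    · exact mul_neg_of_neg_of_pos (by have := hu k; omega) hk
  rw [← h.pair_symm, RootGood.pair_one] at hlt
  exact absurd hlt (not_lt.2 hp.le)

theorem eq_of_allNeg {z z' : M.Group} (hz : AllNeg h z) (hz' : AllNeg h z') : z = z' := by
  refine (inv_mul_eq_one.1 (h.eq_one_of_invSet_empty (h.invSet_eq_empty fun i => ?_))).symm
  by_contra hn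
  set x := h.rootPerm (z'⁻¹ * z) (h.simpleRoot i) with hx
  have h1 := hz' (h.negRoot x) ((h.pos_negRoot x).2 hn)
  rw [h.rootPerm_neg, h.pos_negRoot, not_not, hx, ← Equiv.Perm.mul_apply, ← map_mul,
    mul_inv_cancel_left] at h1
  exact hz _ (h.pos_simpleRoot i) h1

variable {w : M.Group}

/-- The weight `1 - w 1`. -/
def moved (h : RootGood C M R) (w : M.Group) : Fin D.rank → ℤ := 1 - h.good.rep w 1

theorem moved_apply (hww : w * w = 1) (i : Fin D.rank) :
    moved h w i = 1 - rootPair 1 (h.rootPerm w (h.simpleRoot i)) := by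
  rw [h.pair_symm, inv_eq_of_mul_eq_one_right hww, h.pair_simple]
  rfl

theorem moved_fixed (hww : w * w = 1) {i : Fin D.rank}
    (hi : h.rootPerm w (h.simpleRoot i) = h.simpleRoot i) : moved h w i = 0 := by
  rw [moved_apply h hww, hi, h.pair_simple]
  simp

theorem rep_moved (hww : w * w = 1) : h.good.rep w (moved h w) = -moved h w := by
  have e : h.good.rep w (h.good.rep w 1) = 1 := by
    rw [← Module.End.mul_apply, ← map_mul, hww, map_one h.good.rep, Module.End.one_apply]
  rw [moved, map_sub, e]
  abel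

theorem moved_nonneg (hww : w * w = 1) (hw : FixOrNeg h w) (i : Fin D.rank) :
    0 ≤ moved h w i := by
  rcases hw i with hi | hi
  · rw [moved_fixed h hww hi]
  · rw [moved_apply h hww]
    have := h.rootPair_nonpos (v := (1 : Fin D.rank → ℤ)) (fun _ => zero_le_one) hi
    omega

theorem moved_pos (hww : w * w = 1) (hw : FixOrNeg h w) {i : Fin D.rank}
    (hi : h.rootPerm w (h.simpleRoot i) ≠ h.simpleRoot i) : 0 < moved h w i := by
  rw [moved_apply h hww]
  have := h.rootPair_nonpos (v := (1 : Fin D.rank → ℤ)) (fun _ => zero_le_one)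
    ((hw i).resolve_left hi)
  omega

theorem rep_fix_moved (hww : w * w = 1) {v : M.Group} (hv : v ∈ fixGroup h w) :
    h.good.rep v (moved h w) = moved h w := by
  induction hv using Subgroup.closure_induction with
  | mem s hs =>
    obtain ⟨i, hi, rfl⟩ := hs
    exact h.refl_eq_self_of_zero (moved_fixed h hww hi)
  | one => simp
  | mul a b _ _ ha hb => rw [map_mul, Module.End.mul_apply, hb, ha]
  | inv a _ ha =>
    conv_lhs => rw [← ha]
    rw [← Module.End.mul_apply, ← map_mul, inv_mul_cancel, map_one, Module.End.one_apply]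

/-- Moved fundamental roots stay moved after an element of the fixing group. -/
theorem not_pos_of_moved (hww : w * w = 1) (hw : FixOrNeg h w) {v : M.Group}
    (hv : v ∈ fixGroup h w) {i : Fin D.rank}
    (hi : h.rootPerm w (h.simpleRoot i) ≠ h.simpleRoot i) :
    ¬ PosIdx (h.rootPerm (w * v) (h.simpleRoot i)) := by
  set x := h.rootPerm v (h.simpleRoot i) with hx
  have h1 : 0 < rootPair (moved h w) x := by
    rw [hx, h.pair_symm, rep_fix_moved h hww (inv_mem hv), h.pair_simple]
    exact moved_pos h hww hw hi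
  have h2 : rootPair (moved h w) (h.rootPerm w x) < 0 := by
    rw [h.pair_symm, inv_eq_of_mul_eq_one_right hww, rep_moved h hww]
    simp only [rootPair, Pi.neg_apply, neg_mul, Finset.sum_neg_distrib] at h1 ⊢
    omega
  intro hp
  rw [map_mul, Equiv.Perm.mul_apply, ← hx] at hp
  have := h.rootPair_nonneg (moved_nonneg h hww hw) hp
  omega

/-- `w v` is the longest element for every element `v` of the fixing group negating the fixed
fundamental roots, when `w` commutes with `v`. -/
theorem allNeg_mul (hww : w * w = 1) (hw : FixOrNeg h w) {v : M.Group} (hv : v ∈ fixGroup h w)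
    (hneg : ∀ i, h.rootPerm w (h.simpleRoot i) = h.simpleRoot i →
      ¬ PosIdx (h.rootPerm (w * v) (h.simpleRoot i))) : AllNeg h (w * v) :=
  allNeg_of_simples h fun i => by
    by_cases hi : h.rootPerm w (h.simpleRoot i) = h.simpleRoot i
    · exact hneg i hi
    · exact not_pos_of_moved h hww hw hv hi

/-- Some element of the fixing group makes `w v` the longest element. -/
theorem exists_allNeg (hww : w * w = 1) (hw : FixOrNeg h w) :
    ∃ v ∈ fixGroup h w, AllNeg h (w * v) := by
  have := h.finite_group
  obtain ⟨⟨v, hv⟩, hmax⟩ := Finite.exists_max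
    fun v : ↥(fixGroup h w) => (h.invSet (w * (v : M.Group))).card
  refine ⟨v, hv, allNeg_mul h hww hw hv fun i hi hp => ?_⟩
  have hs : M.simple i ∈ fixGroup h w := Subgroup.subset_closure ⟨i, hi, rfl⟩
  have h1 := hmax ⟨v * M.simple i, mul_mem hv hs⟩
  change (h.invSet (w * (v * M.simple i))).card ≤ (h.invSet (w * v)).card at h1
  have h2 := (h.card_inv_mul_simple (w * v) i).1 hp
  rw [← mul_assoc] at h1
  omega

end CfsgLib.InvClasses
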