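import Cfsg.Agent.InvClasses.Pure
import Cfsg.Agent.InvClasses.Fixing
import Cfsg.Agent.ChevInvol.Support

/-!
# Involutions at a highest Bruhat position

In characteristic two an involution whose conjugates reach no longer Bruhat cell is conjugate to
the pure representative of an involution of the Weyl group.
-/

set_option autoImplicit false

namespace CfsgLib.InvClasses

open Cfsg.Lie CfsgLib.Chevalley

variable {D : ChevalleyDatum} {C : Weyl.Cert D.rank} {M : CoxeterMatrix (Fin D.rank)}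
  {R : Weyl.RootTable} (hW : GoodWeyl D) (h : Weyl.RootGood C M R) {F : Type*} [Field F]

/-- An involution in the cell of `w` none of whose conjugates is in a longer cell. -/
structure IsTop (g : GL D.Idx F) (w : M.Group) : Prop where
  mem : g ∈ D.group F
  sq : g * g = 1
  cell : g ∈ cell hW h F w
  max : ∀ k ∈ D.group F, ∀ w', k * g * k⁻¹ ∈ Chevalley.cell hW h F w' →
    M.toCoxeterSystem.length w' ≤ M.toCoxeterSystem.length w

theorem IsTop.conj {g : GL D.Idx F} {w : M.Group} (hg : IsTop hW h g w) {k : GL D.Idx F}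
    (hk : k ∈ D.group F) (hc : k * g * k⁻¹ ∈ Chevalley.cell hW h F w) :
    IsTop hW h (k * g * k⁻¹) w where
  mem := mul_mem (mul_mem hk hg.mem) (inv_mem hk)
  sq := by
    rw [show k * g * k⁻¹ * (k * g * k⁻¹) = k * (g * g) * k⁻¹ by group, hg.sq, mul_one,
      mul_inv_cancel]
  cell := hc
  max k' hk' w' hw' := hg.max (k' * k) (mul_mem hk' hk) w' (by
    rwa [show k' * k * g * (k' * k)⁻¹ = k' * (k * g * k⁻¹) * k'⁻¹ by group])

include h in
theorem exists_isTop {g : GL D.Idx F} (hg : g ∈ D.group F) (h2 : g * g = 1) :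
    ∃ k ∈ D.group F, ∃ w, IsTop hW h (k * g * k⁻¹) w := by
  have := h.finite_group
  have hne : Nonempty {w : M.Group // ∃ k ∈ D.group F, k * g * k⁻¹ ∈ Chevalley.cell hW h F w} := by
    obtain ⟨w, hw⟩ := exists_mem_cell hW h hg
    exact ⟨⟨w, 1, one_mem _, by simpa using hw⟩⟩
  obtain ⟨⟨w, k, hk, hw⟩, hmax⟩ := Finite.exists_max fun w : {w : M.Group //
    ∃ k ∈ D.group F, k * g * k⁻¹ ∈ Chevalley.cell hW h F w} => M.toCoxeterSystem.length w.1
  refine ⟨k, hk, w, mul_mem (mul_mem hk hg) (inv_mem hk), ?_, hw, fun k' hk' w' hw' =>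
    hmax ⟨w', k' * k, mul_mem hk' hk, ?_⟩⟩
  · rw [show k * g * k⁻¹ * (k * g * k⁻¹) = k * (g * g) * k⁻¹ by group, h2, mul_one,
      mul_inv_cancel]
  · rwa [show k' * k * g * (k' * k)⁻¹ = k' * (k * g * k⁻¹) * k'⁻¹ by group]

theorem inv_mem_cell {g : GL D.Idx F} {w : M.Group} (hg : g ∈ cell hW h F w) :
    g⁻¹ ∈ cell hW h F w⁻¹ := by
  obtain ⟨b, hb, b', hb', rfl⟩ := hg
  have hn := mem_cell_self hW h
    (⟨nW hW h F w, nW_mem hW h w⟩⁻¹ : ↥(D.monomialSubgroup F))
  rw [map_inv, weylHom_nW, Subgroup.coe_inv] at hn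
  have := mul_mem_cell hW h (inv_mem hb') hn (inv_mem hb)
  rwa [show (b * nW hW h F w * b')⁻¹ = b'⁻¹ * (nW hW h F w)⁻¹ * b⁻¹ by group]

variable {g : GL D.Idx F} {w : M.Group}

theorem IsTop.mul_self (hg : IsTop hW h g w) : w * w = 1 := by
  have h1 := inv_mem_cell hW h hg.cell
  rw [inv_eq_of_mul_eq_one_right hg.sq] at h1
  have h2 : w⁻¹ = w := cell_eq_of_mem hW h h1 hg.cell
  nth_rw 1 [← h2]
  exact inv_mul_cancel w

theorem nR_mul_cell_up {i : Fin D.rank} {v : M.Group} (hv : GoesUp hW h i v) {x : GL D.Idx F}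
    (hx : x ∈ cell hW h F v) : nR hW i * x ∈ cell hW h F (M.simple i * v) := by
  obtain ⟨b, hb, b', hb', rfl⟩ := hx
  rw [← mul_assoc, ← mul_assoc]
  exact cell_mul_borel_mem hW h (nR_mul_nW_up hW h hv hb) hb'

/-- A top involution fixes every fundamental root which it keeps positive. -/
theorem IsTop.fixOrNeg (hg : IsTop hW h g w) : FixOrNeg h w := by
  intro i
  by_contra hc
  rw [not_or, not_not] at hc
  obtain ⟨hne, hp⟩ := hc
  have hww := hg.mul_self
  have hwi : w⁻¹ = w := inv_eq_of_mul_eq_one_right hww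
  have hsi : (M.simple i)⁻¹ = M.simple i :=
    inv_eq_of_mul_eq_one_right (M.toCoxeterSystem.simple_mul_simple_self i)
  have hup : GoesUp hW h i w := by
    rw [GoesUp, hwi, ← simpleRoot_eq hW h, ← posIdx_iff hW.good h]
    exact hp
  have hup2 : GoesUp hW h i (M.simple i * w)⁻¹ := by
    rw [GoesUp, inv_inv, map_mul, Equiv.Perm.mul_apply, ← simpleRoot_eq hW h,
      ← posIdx_iff hW.good h]
    exact h.pos_simple_apply hne hp
  have hl1 := (goesUp_iff hW h i w).1 hup
  have hl2 := (goesUp_iff hW h i _).1 hup2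
  rw [CoxeterSystem.length_inv] at hl2
  have hx := inv_mem_cell hW h (nR_mul_cell_up hW h hup hg.cell)
  have hy := nR_mul_cell_up hW h hup2 hx
  rw [mul_inv_rev (nR hW i) g, inv_eq_of_mul_eq_one_right hg.sq, ← mul_assoc] at hy
  have hk : nR hW i ∈ D.group F := nR_mem_group hW i
  have := hg.max _ hk _ hy
  omega

variable [CharP F 2]

theorem pW_fix_comm {i : Fin D.rank} (hi : h.rootPerm w (h.simpleRoot i) = h.simpleRoot i) :
    Commute (pW hW h F w) (nR hW i) := by
  have e : h.rootPerm w (pRoot hW i) = pRoot hW i := by rwa [← simpleRoot_eq hW h]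
  have e' : h.rootPerm w (pRoot hW i).rev = (pRoot hW i).rev := by
    rw [(monBy_pW hW h F w).apply_rev, e]
  rw [nR]
  refine (Commute.mul_right (Commute.mul_right ?_ ?_) ?_)
  · rw [Commute, SemiconjBy, pW_mul_X, e]
  · rw [Commute, SemiconjBy, pW_mul_X, e']
  · rw [Commute, SemiconjBy, pW_mul_X, e]

theorem eq_zero_of_mem_posCompl {i : Fin D.rank} {s : F}
    (hs : X hW.good (pRoot hW i) s ∈ rootGen hW.good F (posCompl hW i)) : s = 0 := by
  have h1 := rootGen_posCompl_le hW i (nR_conj_posCompl hW i hs)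
  rw [nR_conj_X hW F, hW.wPerm_pRoot] at h1
  have h2 : X hW.good (pRoot hW i).rev s ∈ D.borelSubgroup F ⊓ D.negUnipotent F :=
    ⟨pos_le_borel D h1, X_mem_neg hW.good (pRoot_rev_neg hW i) s⟩
  rw [borel_inf_neg hW, Subgroup.mem_bot] at h2
  exact X_injective hW.good _ (h2.trans (X_zero hW.good _).symm)

variable {a y : GL D.Idx F}

theorem shape_mem_cell (ha : a ∈ D.posUnipotent F) (hy : y ∈ D.diagonalSubgroup F) :
    a * y * pW hW h F w ∈ cell hW h F w :=
  borel_mul_mem_cell hW h (mul_mem (pos_le_borel D ha) (diag_le_borel D hy))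
    (pW_mem_cell hW h F w)

/-- The coefficient at a fixed fundamental root vanishes. -/
theorem mem_posCompl_of_top (ha : a ∈ D.posUnipotent F) (hy : y ∈ D.diagonalSubgroup F)
    (hg : IsTop hW h (a * y * pW hW h F w) w) {i : Fin D.rank}
    (hi : h.rootPerm w (h.simpleRoot i) = h.simpleRoot i) :
    a ∈ rootGen hW.good F (posCompl hW i) := by
  obtain ⟨v, hv, t, rfl⟩ := exists_split_pos hW i ha
  rcases eq_or_ne t 0 with rfl | ht
  · rwa [X_zero, mul_one]
  exfalso
  have e : h.rootPerm w (pRoot hW i) = pRoot hW i := by rwa [← simpleRoot_eq hW h]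
  obtain ⟨c, hc⟩ := diag_conj_X hW hy (pRoot hW i)
  set n := pW hW h F w with hn
  set τ : Fˣ := c⁻¹ * Units.mk0 t ht with hτ
  have h1 : X hW.good (pRoot hW i) t * y = y * X hW.good (pRoot hW i) (τ : F) := by
    have := hc (τ : F)
    simp only [hτ, Units.val_mul, Units.val_mk0, Units.mul_inv_cancel_left] at this
    rw [← this]
    simp only [hτ, Units.val_mul, Units.val_mk0]
    group
  have h2 := nR_conj_X_pRoot hW i τ
  set q := -((τ⁻¹ : Fˣ) : F)
  set H := hT F (pRoot hW i) τ⁻¹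
  have hbor : nR hW i * (v * y) * (nR hW i)⁻¹ ∈ D.borelSubgroup F := by
    rw [show ∀ m p s : GL D.Idx F, m * (p * s) * m⁻¹ = (m * p * m⁻¹) * (m * s * m⁻¹) from
      fun m p s => by group]
    exact mul_mem (pos_le_borel D (rootGen_posCompl_le hW i (nR_conj_posCompl hW i hv)))
      (diag_le_borel D ((Subgroup.mem_normalizer_iff.1
        (monomial_le_normalizer hW (nR_mem_monomial hW i)) y).1 hy))
  have h3 : nR hW i * (v * X hW.good (pRoot hW i) t * y * n) * (nR hW i)⁻¹ =
      (nR hW i * (v * y) * (nR hW i)⁻¹) * X hW.good (pRoot hW i) q * H *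
        pW hW h F (M.simple i * w) * X hW.good (pRoot hW i) q := by
    have hcomm : X hW.good (pRoot hW i) q * n = n * X hW.good (pRoot hW i) q := by
      rw [hn, pW_mul_X, e]
    calc nR hW i * (v * X hW.good (pRoot hW i) t * y * n) * (nR hW i)⁻¹
        = nR hW i * (v * (X hW.good (pRoot hW i) t * y)) * (n * (nR hW i)⁻¹) := by group
      _ = nR hW i * (v * (y * X hW.good (pRoot hW i) (τ : F))) * ((nR hW i)⁻¹ * n) := by
        rw [h1, hn, ((pW_fix_comm hW h hi).inv_right).eq]
      _ = (nR hW i * (v * y) * (nR hW i)⁻¹) *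
            (nR hW i * X hW.good (pRoot hW i) (τ : F) * (nR hW i)⁻¹) * n := by group
      _ = (nR hW i * (v * y) * (nR hW i)⁻¹) * X hW.good (pRoot hW i) q * H * nR hW i *
            (X hW.good (pRoot hW i) q * n) := by rw [h2]; simp only [mul_assoc]
      _ = _ := by rw [hcomm, map_mul, pW_simple, ← hn]; group
  have hcell : nR hW i * (v * X hW.good (pRoot hW i) t * y * n) * (nR hW i)⁻¹ ∈
      cell hW h F (M.simple i * w) := by
    rw [h3]
    exact cell_mul_borel_mem hW h (borel_mul_mem_cell hW h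
      (mul_mem (mul_mem hbor (X_pRoot_mem_borel hW i q))
        (diag_le_borel D (hT_mem_diagonal hW _ _))) (pW_mem_cell hW h F _))
      (X_pRoot_mem_borel hW i q)
  have hup : GoesUp hW h i w := by
    rw [GoesUp, inv_eq_of_mul_eq_one_right hg.mul_self, e]
    exact pRoot_pos hW i
  have := hg.max _ (nR_mem_group hW i) _ hcell
  rw [(goesUp_iff hW h i w).1 hup] at this
  omega

/-- The torus part commutes with the representative of a fixed fundamental reflection. -/
theorem diag_comm_of_top (ha : a ∈ D.posUnipotent F) (hy : y ∈ D.diagonalSubgroup F)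
    (hg : IsTop hW h (a * y * pW hW h F w) w) {i : Fin D.rank}
    (hi : h.rootPerm w (h.simpleRoot i) = h.simpleRoot i) : Commute y (nR hW i) := by
  have e : h.rootPerm w (pRoot hW i) = pRoot hW i := by rwa [← simpleRoot_eq hW h]
  obtain ⟨c, hc, hc'⟩ := monBy_diag hW hy (pRoot hW i)
  simp only [Equiv.Perm.one_apply] at hc hc'
  set x := X hW.good (pRoot hW i) (1 : F) with hx
  have hxg : x ∈ D.group F := X_mem_group hW.good _ _
  have hxp : x ∈ D.posUnipotent F := X_mem_pos hW.good (pRoot_pos hW i) _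
  have e1 : x * (a * y * pW hW h F w) * x⁻¹ =
      x * a * X hW.good (pRoot hW i) ((c : F) * -1) * y * pW hW h F w := by
    rw [hx, X_inv, ← hc (-1)]
    have e2 := pW_mul_X hW h F w (pRoot hW i) (-1)
    rw [e] at e2
    simp only [mul_assoc, e2]
    group
  have ha' : x * a * X hW.good (pRoot hW i) ((c : F) * -1) ∈ D.posUnipotent F :=
    mul_mem (mul_mem hxp ha) (X_mem_pos hW.good (pRoot_pos hW i) _)
  have hg' := hg.conj hW h hxg (by rw [e1]; exact shape_mem_cell hW h ha' hy)
  rw [e1] at hg'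
  have hm := mem_posCompl_of_top hW h ha' hy hg' hi
  have hm2 := X_conj_posCompl hW i (1 : F) (mem_posCompl_of_top hW h ha hy hg hi)
  have hm3 := mul_mem (inv_mem hm2) hm
  rw [← hx, show (x * a * x⁻¹)⁻¹ * (x * a * X hW.good (pRoot hW i) ((c : F) * -1)) =
    x * X hW.good (pRoot hW i) ((c : F) * -1) by group, hx, X_mul] at hm3
  have hc1 : (c : F) = 1 := by linear_combination -(eq_zero_of_mem_posCompl hW hm3)
  have hcu : c = 1 := Units.ext hc1
  subst hcu
  simp only [inv_one, Units.val_one, one_mul] at hc hc'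
  have k1 : ∀ t, Commute y (X hW.good (pRoot hW i) t) := fun t => by
    rw [Commute, SemiconjBy, ← eq_mul_inv_iff_mul_eq.1 (hc t).symm]
  have k2 : ∀ t, Commute y (X hW.good (pRoot hW i).rev t) := fun t => by
    rw [Commute, SemiconjBy, ← eq_mul_inv_iff_mul_eq.1 (hc' t).symm]
  rw [nR]
  exact ((k1 _).mul_right (k2 _)).mul_right (k1 _)

/-- The shape is kept by the representatives of the fixing group. -/
theorem conj_fixGroup (hy : y ∈ D.diagonalSubgroup F) {v : M.Group} (hv : v ∈ fixGroup h w) :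
    ∀ a ∈ D.posUnipotent F, IsTop hW h (a * y * pW hW h F w) w →
      pW hW h F v * a * (pW hW h F v)⁻¹ ∈ D.posUnipotent F ∧
        IsTop hW h (pW hW h F v * a * (pW hW h F v)⁻¹ * y * pW hW h F w) w := by
  have step : ∀ i : Fin D.rank, h.rootPerm w (h.simpleRoot i) = h.simpleRoot i →
      ∀ a ∈ D.posUnipotent F, IsTop hW h (a * y * pW hW h F w) w →
      nR hW i * a * (nR hW i)⁻¹ ∈ D.posUnipotent F ∧
        IsTop hW h (nR hW i * a * (nR hW i)⁻¹ * y * pW hW h F w) w := by
    intro i hi a ha hg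
    have ha' : nR hW i * a * (nR hW i)⁻¹ ∈ D.posUnipotent F := rootGen_posCompl_le hW i
      (nR_conj_posCompl hW i (mem_posCompl_of_top hW h ha hy hg hi))
    have e : nR hW i * (a * y * pW hW h F w) * (nR hW i)⁻¹ =
        nR hW i * a * (nR hW i)⁻¹ * y * pW hW h F w := by
      calc nR hW i * (a * y * pW hW h F w) * (nR hW i)⁻¹
          = nR hW i * a * y * (pW hW h F w * (nR hW i)⁻¹) := by group
        _ = nR hW i * a * (y * (nR hW i)⁻¹) * pW hW h F w := by
          rw [((pW_fix_comm hW h hi).inv_right).eq]; group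
        _ = _ := by rw [((diag_comm_of_top hW h ha hy hg hi).inv_right).eq]; group
    refine ⟨ha', ?_⟩
    have := hg.conj hW h (nR_mem_group hW i) (by rw [e]; exact shape_mem_cell hW h ha' hy)
    rwa [e] at this
  induction hv using Subgroup.closure_induction_left with
  | one => intro a ha hg; simpa using And.intro ha hg
  | mul_left s hs v _ ih =>
    obtain ⟨i, hi, rfl⟩ := hs
    intro a ha hg
    obtain ⟨ha', hg'⟩ := ih a ha hg
    have e : pW hW h F (M.simple i * v) * a * (pW hW h F (M.simple i * v))⁻¹ =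
        nR hW i * (pW hW h F v * a * (pW hW h F v)⁻¹) * (nR hW i)⁻¹ := by
      rw [map_mul, pW_simple]; group
    rw [e]
    exact step i hi _ ha' hg'
  | inv_mul_cancel s hs v _ ih =>
    obtain ⟨i, hi, rfl⟩ := hs
    intro a ha hg
    obtain ⟨ha', hg'⟩ := ih a ha hg
    rw [inv_eq_of_mul_eq_one_right (show M.simple i * M.simple i = 1 from
      M.toCoxeterSystem.simple_mul_simple_self i)]
    have e : pW hW h F (M.simple i * v) * a * (pW hW h F (M.simple i * v))⁻¹ =
        nR hW i * (pW hW h F v * a * (pW hW h F v)⁻¹) * (nR hW i)⁻¹ := by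
      rw [map_mul, pW_simple]; group
    rw [e]
    exact step i hi _ ha' hg'

variable [Finite F]

include hW in
theorem exists_pow_two_pow_eq_one (ha : a ∈ D.posUnipotent F) : ∃ N : ℕ, a ^ 2 ^ N = 1 := by
  cases nonempty_fintype F
  obtain ⟨n, -, hn⟩ := FiniteField.card F 2
  refine ⟨n * half D, ?_⟩
  have hq : Nat.card F = 2 ^ (n : ℕ) := by rw [Nat.card_eq_fintype_card, hn]
  have hU : Nat.card (D.posUnipotent F) = 2 ^ ((n : ℕ) * half D) := by
    rw [posUnipotent_eq hW.good, natCard_uGe hW.toGoodUni, hq, pow_mul]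
  have h1 : (⟨a, ha⟩ : D.posUnipotent F) ^ Nat.card (D.posUnipotent F) = 1 := pow_card_eq_one'
  rw [hU] at h1
  simpa using congrArg Subtype.val h1

include hW in
/-- An element of `B` of two-power order lies in `U`. -/
theorem mem_pos_of_pow_two {v k : GL D.Idx F} (hv : v ∈ D.posUnipotent F)
    (hk : k ∈ D.diagonalSubgroup F) {N : ℕ} (hN : (v * k) ^ 2 ^ N = 1) : k = 1 := by
  have key : ∀ m : ℕ, (v * k) ^ m * (k ^ m)⁻¹ ∈ D.posUnipotent F := by
    intro m
    induction m with
    | zero => simp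
    | succ m ih =>
      rw [show (v * k) ^ (m + 1) * (k ^ (m + 1))⁻¹ =
        ((v * k) ^ m * (k ^ m)⁻¹) * (k ^ m * v * (k ^ m)⁻¹) by rw [pow_succ, pow_succ]; group]
      exact mul_mem ih (((Subgroup.mem_normalizer_iff.1
        (diag_le_normalizer_pos hW (pow_mem hk m))) v).1 hv)
  have h1 := key (2 ^ N)
  rw [hN, one_mul] at h1
  have h2 : k ^ 2 ^ N = 1 := by
    rw [← Subgroup.mem_bot, ← pos_inf_diag hW]
    exact ⟨by simpa using inv_mem h1, pow_mem hk _⟩
  have h3 : k ^ Nat.card (D.diagonalSubgroup F) = 1 :=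
    congrArg Subtype.val (pow_card_eq_one' (x := (⟨k, hk⟩ : D.diagonalSubgroup F)))
  rw [← orderOf_eq_one_iff]
  refine Nat.eq_one_of_dvd_coprimes ?_ (orderOf_dvd_of_pow_eq_one h2) (orderOf_dvd_of_pow_eq_one h3)
  exact (Nat.coprime_two_left.2 (ChevInvol.odd_natCard_diagonal hW)).pow_left N

/-- The consequences of the square being one. -/
theorem shape_sq (ha : a ∈ D.posUnipotent F) (hy : y ∈ D.diagonalSubgroup F) (hww : w * w = 1)
    (hsq : a * y * pW hW h F w * (a * y * pW hW h F w) = 1) :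
    pW hW h F w * a * (pW hW h F w)⁻¹ ∈ D.posUnipotent F ∧
      y * pW hW h F w * (y * pW hW h F w) = 1 := by
  set n := pW hW h F w with hn
  have hnn : n * n = 1 := by rw [hn, ← map_mul, hww, map_one]
  have hni : n⁻¹ = n := inv_eq_of_mul_eq_one_right hnn
  have hN := fun x : GL D.Idx F => Subgroup.mem_normalizer_iff.1
    (monomial_le_normalizer hW (pW_mem_monomial hW h F w)) x
  have hd : y * (n * y * n⁻¹) ∈ D.diagonalSubgroup F := mul_mem hy ((hN y).1 hy)
  set d := y * (n * y * n⁻¹) with hdd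
  set v := y⁻¹ * a⁻¹ * y with hvv
  have hv : v ∈ D.posUnipotent F := by
    have := ((Subgroup.mem_normalizer_iff.1 (diag_le_normalizer_pos hW (inv_mem hy))) a⁻¹).1
      (inv_mem ha)
    rwa [inv_inv] at this
  have hk : y⁻¹ * d⁻¹ * y ∈ D.diagonalSubgroup F := mul_mem (mul_mem (inv_mem hy) (inv_mem hd)) hy
  have e : n * a * n⁻¹ = v * (y⁻¹ * d⁻¹ * y) := by
    have h1 : a * (y * (n * a * n⁻¹) * y⁻¹) * d = 1 := by
      rw [← hsq, hdd, hni]
      have := hni
      calc a * (y * (n * a * n) * y⁻¹) * (y * (n * y * n))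
          = a * y * n * a * (n * n) * y * n := by group
        _ = _ := by rw [hnn]; group
    calc n * a * n⁻¹ = y⁻¹ * (a⁻¹ * (a * (y * (n * a * n⁻¹) * y⁻¹) * d) * d⁻¹) * y := by group
      _ = _ := by rw [h1, hvv]; group
  obtain ⟨N, hN2⟩ := exists_pow_two_pow_eq_one hW ha
  have h2 : (v * (y⁻¹ * d⁻¹ * y)) ^ 2 ^ N = 1 := by rw [← e, conj_pow, hN2]; group
  have hk1 := mem_pos_of_pow_two hW hv hk h2
  refine ⟨by rw [e, hk1, mul_one]; exact hv, ?_⟩
  have hd1 : d = 1 := by
    have : y * (y⁻¹ * d⁻¹ * y) * y⁻¹ = d⁻¹ := by group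
    rw [hk1, mul_one, mul_inv_cancel, eq_comm, inv_eq_one] at this
    exact this
  rw [← hd1, hdd, hni]
  group

/-- A top involution of the shape has trivial unipotent part. -/
theorem eq_one_of_top (ha : a ∈ D.posUnipotent F) (hy : y ∈ D.diagonalSubgroup F)
    (hg : IsTop hW h (a * y * pW hW h F w) w) : a = 1 := by
  have hww := hg.mul_self
  obtain ⟨v, hv, hneg⟩ := exists_allNeg h hww hg.fixOrNeg
  obtain ⟨ha', hg'⟩ := conj_fixGroup hW h hy hv a ha hg
  have h1 := (shape_sq hW h ha' hy hww hg'.sq).1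
  rw [show ∀ n m : GL D.Idx F, n * (m * a * m⁻¹) * n⁻¹ = n * m * a * (n * m)⁻¹ from
    fun n m => by group, ← map_mul] at h1
  have h2 : pW hW h F (w * v) * a * (pW hW h F (w * v))⁻¹ ∈ D.negUnipotent F := by
    rw [posUnipotent_eq_rootGen hW.good] at ha
    rw [negUnipotent_eq_rootGen hW.good]
    refine (monBy_pW hW h F (w * v)).conj_rootGen (fun r hr => ?_) ha
    have := hneg r ((posIdx_iff hW.good h r).2 hr)
    rw [posIdx_iff hW.good h] at this
    exact not_le.1 this
  have h3 : pW hW h F (w * v) * a * (pW hW h F (w * v))⁻¹ ∈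
      D.borelSubgroup F ⊓ D.negUnipotent F := ⟨pos_le_borel D h1, h2⟩
  rwa [borel_inf_neg hW, Subgroup.mem_bot, conj_eq_one_iff] at h3

/-- Every involution is conjugate to the pure representative of an involution of the Weyl group
fixing or negating each fundamental root. -/
theorem exists_conj_pW {g : GL D.Idx F} (hg : g ∈ D.group F) (h2 : g * g = 1) :
    ∃ k ∈ D.group F, ∃ w : M.Group, w * w = 1 ∧ FixOrNeg h w ∧ k * g * k⁻¹ = pW hW h F w := by
  obtain ⟨k, hk, w, ht⟩ := exists_isTop hW h hg h2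
  obtain ⟨b, hb, c, hc, e⟩ := exists_form hW h w ht.cell
  obtain ⟨u, hu, y, hy, rfl⟩ := (mem_borel_iff hW).1 hb
  obtain ⟨z, hz, ez⟩ := exists_eq_nW_mul hW h ⟨pW hW h F w, pW_mem_monomial hW h F w⟩
  rw [weylHom_pW] at ez
  change pW hW h F w = _ at ez
  set n := pW hW h F w with hn
  have hcU : c ∈ D.posUnipotent F := uW_le_pos hW h w hc
  have hcg : c ∈ D.group F := borel_le_group hW (pos_le_borel D hcU)
  set y' := y * (n * z⁻¹ * n⁻¹) with hy'
  have hy'm : y' ∈ D.diagonalSubgroup F := mul_mem hy ((Subgroup.mem_normalizer_iff.1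
    (monomial_le_normalizer hW (pW_mem_monomial hW h F w)) z⁻¹).1 (inv_mem hz))
  have hau : c * u ∈ D.posUnipotent F := mul_mem hcU hu
  have e1 : c * (k * g * k⁻¹) * c⁻¹ = c * u * y' * n := by
    rw [← e, hy', show nW hW h F w = n * z⁻¹ by rw [ez, mul_inv_cancel_right]]
    group
  have ht' := ht.conj hW h hcg (by rw [e1]; exact shape_mem_cell hW h hau hy'm)
  rw [e1] at ht'
  have ha1 := eq_one_of_top hW h hau hy'm ht'
  have hsq := (shape_sq hW h hau hy'm ht.mul_self ht'.sq).2
  rw [← hn] at hsq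
  rw [ha1, one_mul] at e1
  -- a square root of the torus part
  obtain ⟨j, hj⟩ := ChevInvol.odd_natCard_diagonal (F := F) hW
  set r := y' ^ (j + 1) with hr
  have hrr : r * r = y' := by
    have h3 : y' ^ Nat.card (D.diagonalSubgroup F) = 1 :=
      congrArg Subtype.val (pow_card_eq_one' (x := (⟨y', hy'm⟩ : D.diagonalSubgroup F)))
    rw [hr, ← pow_add, show j + 1 + (j + 1) = Nat.card (D.diagonalSubgroup F) + 1 by omega,
      pow_succ, h3, one_mul]
  have hnn : n * n = 1 := by rw [hn, ← map_mul, ht.mul_self, map_one]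
  have hni : n⁻¹ = n := inv_eq_of_mul_eq_one_right hnn
  have hinv : n * y' * n⁻¹ = y'⁻¹ := by
    rw [hni]
    exact eq_inv_of_mul_eq_one_right (by rw [← hsq]; group)
  have hnr : n * r * n⁻¹ = r⁻¹ := by rw [hr, ← conj_pow, hinv, inv_pow]
  refine ⟨r⁻¹ * c * k, mul_mem (mul_mem (inv_mem (diag_le_group hW (pow_mem hy'm _))) hcg) hk,
    w, ht.mul_self, ht.fixOrNeg, ?_⟩
  calc r⁻¹ * c * k * g * (r⁻¹ * c * k)⁻¹ = r⁻¹ * (c * (k * g * k⁻¹) * c⁻¹) * r := by group
    _ = r⁻¹ * (r * r) * (n * r * n⁻¹) * n := by rw [e1, hrr]; group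
    _ = n := by rw [hnr]; group

end CfsgLib.InvClasses
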