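import Cfsg.Agent.Chevalley.BruhatUnique
import Mathlib.Algebra.CharP.Two
import Mathlib.Algebra.Field.ZMod

/-!
# Pure representatives of Weyl group elements in characteristic two

The monomial group over the field with two elements is a copy of the Weyl group. Its image over a
field of characteristic two permutes the root elements without changing their parameters.
-/

set_option autoImplicit false

namespace CfsgLib.InvClasses

open Cfsg.Lie CfsgLib.Chevalley

variable {D : ChevalleyDatum} {C : Weyl.Cert D.rank} {M : CoxeterMatrix (Fin D.rank)}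
  {R : Weyl.RootTable} (hW : GoodWeyl D) (h : Weyl.RootGood C M R)

include hW in
theorem diag_zmod_two_eq_bot : D.diagonalSubgroup (ZMod 2) = ⊥ := by
  rw [diagonalSubgroup_eq_range hW, MonoidHom.range_eq_bot_iff]
  refine MonoidHom.ext fun c => ?_
  rw [show c = 1 from funext fun i => by
    show c i = 1
    exact (show ∀ u : (ZMod 2)ˣ, u = 1 by decide) (c i)]
  simp

theorem weylHom_zmod_two_injective : Function.Injective (weylHom (F := ZMod 2) hW h) := by
  rw [← MonoidHom.ker_eq_bot_iff, ker_weylHom hW h, eq_bot_iff]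
  intro x hx
  have hx' : (x : GL D.Idx (ZMod 2)) ∈ D.diagonalSubgroup (ZMod 2) := hx
  rw [diag_zmod_two_eq_bot hW, Subgroup.mem_bot] at hx'
  exact Subtype.ext hx'

/-- The representative of `w` over the field with two elements, as a homomorphism. -/
noncomputable def nW2 : M.Group →* GL D.Idx (ZMod 2) where
  toFun w := nW hW h (ZMod 2) w
  map_one' := by
    have := weylHom_zmod_two_injective hW h
      (a₁ := ⟨nW hW h (ZMod 2) 1, nW_mem hW h 1⟩) (a₂ := 1) (by rw [weylHom_nW, map_one])
    exact congrArg Subtype.val this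
  map_mul' v w := by
    have := weylHom_zmod_two_injective hW h
      (a₁ := ⟨nW hW h (ZMod 2) (v * w), nW_mem hW h _⟩)
      (a₂ := ⟨nW hW h (ZMod 2) v, nW_mem hW h v⟩ * ⟨nW hW h (ZMod 2) w, nW_mem hW h w⟩)
      (by rw [map_mul, weylHom_nW, weylHom_nW, weylHom_nW])
    exact congrArg Subtype.val this

theorem nW2_simple (i : Fin D.rank) : nW2 hW h (M.simple i) = nR hW i := by
  have := weylHom_zmod_two_injective hW h
    (a₁ := ⟨nW hW h (ZMod 2) (M.simple i), nW_mem hW h _⟩)
    (a₂ := ⟨nR hW i, nR_mem_monomial hW i⟩) (by rw [weylHom_nW, weylHom_nR])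
  exact congrArg Subtype.val this

variable (F : Type*) [Field F] [CharP F 2]

/-- The pure representative of `w`. -/
noncomputable def pW : M.Group →* GL D.Idx F :=
  (Matrix.GeneralLinearGroup.map (ZMod.castHom (dvd_refl 2) F)).comp (nW2 hW h)

theorem pW_simple (i : Fin D.rank) : pW hW h F (M.simple i) = nR hW i := by
  rw [pW, MonoidHom.comp_apply, nW2_simple, nR_map]

theorem pW_mem_monomial (w : M.Group) : pW hW h F w ∈ D.monomialSubgroup F := by
  induction w using M.toCoxeterSystem.simple_induction_left with
  | one => rw [map_one]; exact one_mem _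
  | mul_simple_left w i ih =>
    rw [CoxeterMatrix.toCoxeterSystem_simple, map_mul, pW_simple]
    exact mul_mem (nR_mem_monomial hW i) ih

theorem pW_mem_group (w : M.Group) : pW hW h F w ∈ D.group F :=
  monomial_le_group hW (pW_mem_monomial hW h F w)

theorem weylHom_pW (w : M.Group) :
    weylHom hW h ⟨pW hW h F w, pW_mem_monomial hW h F w⟩ = w := by
  induction w using M.toCoxeterSystem.simple_induction_left with
  | one =>
    refine Eq.trans (congrArg _ (Subtype.ext ?_)) (map_one (weylHom (F := F) hW h))
    exact map_one _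
  | mul_simple_left w i ih =>
    simp only [CoxeterMatrix.toCoxeterSystem_simple]
    refine Eq.trans (congrArg _ (Subtype.ext ?_)) (b := weylHom hW h
      (⟨nR hW i, nR_mem_monomial hW i⟩ * ⟨pW hW h F w, pW_mem_monomial hW h F w⟩)) ?_
    · simp [map_mul, pW_simple]
    · rw [map_mul, weylHom_nR, ih]

theorem monBy_pW (w : M.Group) : MonBy hW (pW hW h F w) (h.rootPerm w) := by
  have := monBy_weylHom hW h ⟨pW hW h F w, pW_mem_monomial hW h F w⟩
  rwa [weylHom_pW] at this

include hW in
theorem eta_cast (i : Fin D.rank) (s : Root D) : (eta D i s : F) = 1 := by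
  have h1 : (eta D i s : F) * (eta D i s : F) = 1 := by
    rw [← Int.cast_mul, hW.eta_sq, Int.cast_one]
  rcases mul_self_eq_one_iff.1 h1 with e | e
  · exact e
  · rw [e, CharTwo.neg_eq]

theorem pW_conj_X (w : M.Group) (r : Root D) (t : F) :
    pW hW h F w * X hW.good r t * (pW hW h F w)⁻¹ = X hW.good (h.rootPerm w r) t := by
  induction w using M.toCoxeterSystem.simple_induction_left generalizing r with
  | one => simp
  | mul_simple_left w i ih =>
    rw [CoxeterMatrix.toCoxeterSystem_simple, map_mul, map_mul, Equiv.Perm.mul_apply, pW_simple,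
      show ∀ n m x : GL D.Idx F, n * m * x * (n * m)⁻¹ = n * (m * x * m⁻¹) * n⁻¹ from
        fun n m x => by group, ih, nR_conj hW, eta_cast hW F, one_mul, wPerm_eq_rootPerm hW h]

theorem pW_mul_X (w : M.Group) (r : Root D) (t : F) :
    pW hW h F w * X hW.good r t = X hW.good (h.rootPerm w r) t * pW hW h F w := by
  rw [← pW_conj_X hW h F w r t, inv_mul_cancel_right]

theorem pW_mem_cell (w : M.Group) : pW hW h F w ∈ cell hW h F w := by
  have := mem_cell_self hW h ⟨pW hW h F w, pW_mem_monomial hW h F w⟩
  rwa [weylHom_pW] at this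

theorem nR_conj_X (i : Fin D.rank) (r : Root D) (t : F) :
    nR hW i * X hW.good r t * (nR hW i)⁻¹ = X hW.good (wPerm hW i r) t := by
  rw [nR_conj hW, eta_cast hW F, one_mul]

end CfsgLib.InvClasses
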