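import Cfsg.Agent.InvClasses.Candidates
import Cfsg.Agent.Chevalley.Element

/-!
# Orders and separation of the certified products
-/

set_option autoImplicit false

namespace CfsgLib.InvClasses

open Cfsg.Lie CfsgLib.Chevalley CfsgLib.ChevSimple.Two

variable {D : ChevalleyDatum} (hD : Good D) (F : Type*) [Field F] [CharP F 2]

theorem rank_eq_of_ok {w : List ℕ} {k B C L R : ℕ} (h1 : rankLeOk D w k B C = true)
    (h2 : rankGeOk D w k L R = true) :
    (((word hD F w : GL D.Idx F) : Matrix D.Idx D.Idx F) - 1).rank = k :=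
  le_antisymm (rank_le_of_ok hD F h1) (le_rank_of_ok hD F h2)

/-- A product with square one and a nonzero rank of `g - 1` has order two. -/
theorem orderOf_word {w : List ℕ} (hw : (w ++ w).all (fun r => Nat.blt r D.nroots) = true)
    (hsq : (actWord D (w ++ w) == actWord D []) = true) {k : ℕ} (hk : k ≠ 0)
    (hr : (((word hD F w : GL D.Idx F) : Matrix D.Idx D.Idx F) - 1).rank = k) :
    orderOf (word hD F w) = 2 := by
  refine orderOf_eq_prime ?_ fun e => ?_
  · rw [pow_two, ← word_append, word, wordX_eq_of_code hD hw rfl hsq]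
    simp [wordX]
  · rw [e, Units.val_one, sub_self, Matrix.rank_zero] at hr
    exact hk hr.symm

theorem coe_word_one {r : ℕ} (hr : r < D.nroots) :
    ((word hD F [r] : GL D.Idx F) : Matrix D.Idx D.Idx F) = D.x F r 1 := by
  rw [word_cons hD F hr, word_nil, mul_one, coe_X]
  exact (x_eq_xR hD F ⟨r, hr⟩ 1).symm

theorem coe_word_cons {r : ℕ} (hr : r < D.nroots) (w : List ℕ) :
    ((word hD F (r :: w) : GL D.Idx F) : Matrix D.Idx D.Idx F) =
      D.x F r 1 * ((word hD F w : GL D.Idx F) : Matrix D.Idx D.Idx F) := by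
  rw [word_cons hD F hr, Units.val_mul, coe_X]
  congr 1
  exact (x_eq_xR hD F ⟨r, hr⟩ 1).symm

end CfsgLib.InvClasses
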